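import Cfsg.Agent.Spor.Th3.D0

set_option autoImplicit false
set_option maxRecDepth 100000000
set_option Elab.async false

namespace Cfsg.Agent.Spor.Th3

theorem ok0 : Net.okb 2 n0 = true := by decide +kernel

theorem ok1 : Net.okb 2 n1 = true := by decide +kernel

theorem ok2 : Net.okb 2 n2 = true := by decide +kernel

theorem ok3 : Net.okb 2 n3 = true := by decide +kernel

theorem ok4 : Net.okb 2 n4 = true := by decide +kernel

theorem ok5 : Net.okb 2 n5 = true := by decide +kernel

theorem ok6 : Net.okb 2 n6 = true := by decide +kernel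

theorem rel0 : T.rel 2 [1, 1] 0 2 = true := by decide +kernel

theorem rel1 : T.rel 2 [2, 2] 0 2 = true := by decide +kernel

theorem rel2 : T.rel 2 [3, 3] 0 2 = true := by decide +kernel

theorem rel3 : T.rel 2 [4, 4] 0 2 = true := by decide +kernel

theorem rel4 : T.rel 2 [5, 5] 0 2 = true := by decide +kernel

theorem rel5 : T.rel 2 [2, 1, 2, 1, 2, 1] 0 2 = true := by decide +kernel

theorem rel6 : T.rel 2 [5, 1, 5, 1] 0 2 = true := by decide +kernel

theorem rel7 : T.rel 2 [3, 2, 3, 2, 3, 2] 0 2 = true := by decide +kernel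

theorem rel8 : T.rel 2 [4, 2, 4, 2] 0 2 = true := by decide +kernel

theorem rel9 : T.rel 2 [5, 2, 5, 2] 0 2 = true := by decide +kernel

theorem rel10 : T.rel 2 [10, 11, 10, 11, 10, 11, 10, 11, 1] 0 2 = true := by decide +kernel

theorem rel11 : T.rel 2 [5, 3, 5, 3] 0 2 = true := by decide +kernel

theorem rel12 : T.rel 2 [5, 4, 5, 4, 5, 4] 0 2 = true := by decide +kernel

theorem rel13 : T.rel 2 [5, 4, 3, 2, 5, 4, 3, 2, 5, 4, 3, 2, 5, 4, 3, 2, 5, 4, 3, 2, 5, 4, 3, 2, 5, 4, 3, 2, 5, 4, 3, 2] 0 2 = true := by decide +kernel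

theorem rel14 : T.rel 2 [6, 6, 6, 6, 6, 6, 6] 0 2 = true := by decide +kernel

theorem rel15 : T.rel 2 [1, 6, 8, 13] 0 2 = true := by decide +kernel

theorem rel16 : T.rel 2 [2, 6, 9, 13] 0 2 = true := by decide +kernel

theorem rel17 : T.rel 2 [3, 6, 10, 13] 0 2 = true := by decide +kernel

theorem rel18 : T.rel 2 [4, 6, 4, 6] 0 2 = true := by decide +kernel

theorem rel19 : T.rel 2 [6, 6, 6, 12, 13, 13, 5, 13, 12] 0 2 = true := by decide +kernel

theorem rel20 : T.rel 2 [7, 7, 7] 0 2 = true := by decide +kernel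

theorem rel21 : T.rel 2 [1, 7, 8, 14] 0 2 = true := by decide +kernel

theorem rel22 : T.rel 2 [2, 7, 9, 14] 0 2 = true := by decide +kernel

theorem rel23 : T.rel 2 [3, 7, 10, 14] 0 2 = true := by decide +kernel

theorem rel24 : T.rel 2 [4, 7, 11, 14] 0 2 = true := by decide +kernel

theorem rel25 : T.rel 2 [5, 7, 12, 14] 0 2 = true := by decide +kernel

theorem rel26 : T.rel 2 [13, 13, 7, 6, 14] 0 2 = true := by decide +kernel

theorem hcov : T.treeCov (ones 3) L 1 = true := by decide +kernel

theorem hg : lall (fun z => band (memL L z) (band (sub (ones 3) (T.let z).cl) (T.closed (ones 3) z))) gs = true := by decide +kernel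

theorem rot1_1 : T.rot 1 [7, 8, 14] (sel (ones 3) ip1 1) = true := by decide +kernel

theorem rot1_1r : band (Rule.ok (2 * 0) EX RL ⟨1 :: [7, 8, 14], [], 21, true⟩) (lall (memL L) [7, 8, 14]) = true := by decide +kernel

theorem rot1_2 : T.rot 1 [14, 8, 7] (sel (ones 3) ip1 2) = true := by decide +kernel

theorem rot1_2r : band (Rule.ok (2 * 0) EX RL ⟨1 :: [14, 8, 7], [13], 21, false⟩) (lall (memL L) [14, 8, 7]) = true := by decide +kernel

theorem cov1 : T.cover 1 [(sel (ones 3) ip1 1), (sel (ones 3) ip1 2), 1] = true := by decide +kernel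

theorem tl1 : Nat.beq (T.let 1).tt 0 = true := by decide +kernel

theorem rot2_1 : T.rot 2 [7, 9, 14] (sel (ones 3) ip2 1) = true := by decide +kernel

theorem rot2_1r : band (Rule.ok (2 * 0) EX RL ⟨2 :: [7, 9, 14], [], 22, true⟩) (lall (memL L) [7, 9, 14]) = true := by decide +kernel

theorem rot2_2 : T.rot 2 [14, 9, 7] (sel (ones 3) ip2 2) = true := by decide +kernel

theorem rot2_2r : band (Rule.ok (2 * 0) EX RL ⟨2 :: [14, 9, 7], [13], 22, false⟩) (lall (memL L) [14, 9, 7]) = true := by decide +kernel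

theorem cov2 : T.cover 2 [(sel (ones 3) ip2 1), (sel (ones 3) ip2 2), 1] = true := by decide +kernel

theorem tl2 : Nat.beq (T.let 2).tt 0 = true := by decide +kernel

theorem rot3_1 : T.rot 3 [7, 10, 14] (sel (ones 3) ip3 1) = true := by decide +kernel

theorem rot3_1r : band (Rule.ok (2 * 0) EX RL ⟨3 :: [7, 10, 14], [], 23, true⟩) (lall (memL L) [7, 10, 14]) = true := by decide +kernel

theorem rot3_2 : T.rot 3 [14, 10, 7] (sel (ones 3) ip3 2) = true := by decide +kernel

theorem rot3_2r : band (Rule.ok (2 * 0) EX RL ⟨3 :: [14, 10, 7], [13], 23, false⟩) (lall (memL L) [14, 10, 7]) = true := by decide +kernel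

theorem cov3 : T.cover 3 [(sel (ones 3) ip3 1), (sel (ones 3) ip3 2), 1] = true := by decide +kernel

theorem tl3 : Nat.beq (T.let 3).tt 0 = true := by decide +kernel

theorem rot4_1 : T.rot 4 [7, 11, 14] (sel (ones 3) ip4 1) = true := by decide +kernel

theorem rot4_1r : band (Rule.ok (2 * 0) EX RL ⟨4 :: [7, 11, 14], [], 24, true⟩) (lall (memL L) [7, 11, 14]) = true := by decide +kernel

theorem rot4_2 : T.rot 4 [14, 11, 7] (sel (ones 3) ip4 2) = true := by decide +kernel

theorem rot4_2r : band (Rule.ok (2 * 0) EX RL ⟨4 :: [14, 11, 7], [13], 24, false⟩) (lall (memL L) [14, 11, 7]) = true := by decide +kernel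

theorem cov4 : T.cover 4 [(sel (ones 3) ip4 1), (sel (ones 3) ip4 2), 1] = true := by decide +kernel

theorem tl4 : Nat.beq (T.let 4).tt 0 = true := by decide +kernel

theorem rot5_1 : T.rot 5 [7, 12, 14] (sel (ones 3) ip5 1) = true := by decide +kernel

theorem rot5_1r : band (Rule.ok (2 * 0) EX RL ⟨5 :: [7, 12, 14], [], 25, true⟩) (lall (memL L) [7, 12, 14]) = true := by decide +kernel

theorem rot5_2 : T.rot 5 [14, 12, 7] (sel (ones 3) ip5 2) = true := by decide +kernel

theorem rot5_2r : band (Rule.ok (2 * 0) EX RL ⟨5 :: [14, 12, 7], [13], 25, false⟩) (lall (memL L) [14, 12, 7]) = true := by decide +kernel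

theorem cov5 : T.cover 5 [(sel (ones 3) ip5 1), (sel (ones 3) ip5 2), 1] = true := by decide +kernel

theorem tl5 : Nat.beq (T.let 5).tt 0 = true := by decide +kernel

theorem rot6_1 : T.rot 6 [14, 13, 13, 7] (sel (ones 3) ip6 1) = true := by decide +kernel

theorem rot6_1r : band (Rule.ok (2 * 0) EX RL ⟨6 :: [14, 13, 13, 7], [13, 10], 26, true⟩) (lall (memL L) [14, 13, 13, 7]) = true := by decide +kernel

theorem cov6 : T.cover 6 [(sel (ones 3) ip6 1), 1] = true := by decide +kernel

theorem tl6 : Nat.beq (T.let 6).tt 0 = true := by decide +kernel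

theorem rot7_1 : T.rot 7 [14] (sel (ones 3) ip7 1) = true := by decide +kernel

theorem rot7_1r : band (Rule.ok (2 * 0) EX RL ⟨7 :: [14], [], 27, false⟩) (lall (memL L) [14]) = true := by decide +kernel

theorem rot7_2 : T.rot 7 [7, 7] (sel (ones 3) ip7 2) = true := by decide +kernel

theorem rot7_2r : band (Rule.ok (2 * 0) EX RL ⟨7 :: [7, 7], [], 20, true⟩) (lall (memL L) [7, 7]) = true := by decide +kernel

theorem cov7 : T.cover 7 [(sel (ones 3) ip7 1), (sel (ones 3) ip7 2)] = true := by decide +kernel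

theorem tl7 : T.treeLt 2 7 = true := by decide +kernel

theorem rot8_1 : T.rot 8 [1] (sel (ones 3) ip8 1) = true := by decide +kernel

theorem rot8_1r : band (Rule.ok (2 * 0) EX RL ⟨8 :: [1], [], 27, false⟩) (lall (memL L) [1]) = true := by decide +kernel

theorem rot8_2 : T.rot 8 [14, 1, 7] (sel (ones 3) ip8 2) = true := by decide +kernel

theorem rot8_2r : band (Rule.ok (2 * 0) EX RL ⟨8 :: [14, 1, 7], [13, 1], 21, true⟩) (lall (memL L) [14, 1, 7]) = true := by decide +kernel

theorem rot8_3 : T.rot 8 [7, 1, 14] (sel (ones 3) ip8 3) = true := by decide +kernel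

theorem rot8_3r : band (Rule.ok (2 * 0) EX RL ⟨8 :: [7, 1, 14], [1], 21, false⟩) (lall (memL L) [7, 1, 14]) = true := by decide +kernel

theorem cov8 : T.cover 8 [(sel (ones 3) ip8 1), (sel (ones 3) ip8 2), (sel (ones 3) ip8 3)] = true := by decide +kernel

theorem tl8 : Nat.beq (T.let 8).tt 0 = true := by decide +kernel

theorem rot9_1 : T.rot 9 [2] (sel (ones 3) ip9 1) = true := by decide +kernel

theorem rot9_1r : band (Rule.ok (2 * 0) EX RL ⟨9 :: [2], [], 27, false⟩) (lall (memL L) [2]) = true := by decide +kernel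

theorem rot9_2 : T.rot 9 [14, 2, 7] (sel (ones 3) ip9 2) = true := by decide +kernel

theorem rot9_2r : band (Rule.ok (2 * 0) EX RL ⟨9 :: [14, 2, 7], [13, 3], 22, true⟩) (lall (memL L) [14, 2, 7]) = true := by decide +kernel

theorem rot9_3 : T.rot 9 [7, 2, 14] (sel (ones 3) ip9 3) = true := by decide +kernel

theorem rot9_3r : band (Rule.ok (2 * 0) EX RL ⟨9 :: [7, 2, 14], [3], 22, false⟩) (lall (memL L) [7, 2, 14]) = true := by decide +kernel

theorem cov9 : T.cover 9 [(sel (ones 3) ip9 1), (sel (ones 3) ip9 2), (sel (ones 3) ip9 3)] = true := by decide +kernel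

theorem tl9 : Nat.beq (T.let 9).tt 0 = true := by decide +kernel

theorem rot10_1 : T.rot 10 [3] (sel (ones 3) ip10 1) = true := by decide +kernel

theorem rot10_1r : band (Rule.ok (2 * 0) EX RL ⟨10 :: [3], [], 27, false⟩) (lall (memL L) [3]) = true := by decide +kernel

theorem rot10_2 : T.rot 10 [14, 3, 7] (sel (ones 3) ip10 2) = true := by decide +kernel

theorem rot10_2r : band (Rule.ok (2 * 0) EX RL ⟨10 :: [14, 3, 7], [13, 5], 23, true⟩) (lall (memL L) [14, 3, 7]) = true := by decide +kernel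

theorem rot10_3 : T.rot 10 [7, 3, 14] (sel (ones 3) ip10 3) = true := by decide +kernel

theorem rot10_3r : band (Rule.ok (2 * 0) EX RL ⟨10 :: [7, 3, 14], [5], 23, false⟩) (lall (memL L) [7, 3, 14]) = true := by decide +kernel

theorem cov10 : T.cover 10 [(sel (ones 3) ip10 1), (sel (ones 3) ip10 2), (sel (ones 3) ip10 3)] = true := by decide +kernel

theorem tl10 : Nat.beq (T.let 10).tt 0 = true := by decide +kernel

theorem rot11_1 : T.rot 11 [4] (sel (ones 3) ip11 1) = true := by decide +kernel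

theorem rot11_1r : band (Rule.ok (2 * 0) EX RL ⟨11 :: [4], [], 27, false⟩) (lall (memL L) [4]) = true := by decide +kernel

theorem rot11_2 : T.rot 11 [14, 4, 7] (sel (ones 3) ip11 2) = true := by decide +kernel

theorem rot11_2r : band (Rule.ok (2 * 0) EX RL ⟨11 :: [14, 4, 7], [13, 7], 24, true⟩) (lall (memL L) [14, 4, 7]) = true := by decide +kernel

theorem rot11_3 : T.rot 11 [7, 4, 14] (sel (ones 3) ip11 3) = true := by decide +kernel

theorem rot11_3r : band (Rule.ok (2 * 0) EX RL ⟨11 :: [7, 4, 14], [7], 24, false⟩) (lall (memL L) [7, 4, 14]) = true := by decide +kernel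

theorem cov11 : T.cover 11 [(sel (ones 3) ip11 1), (sel (ones 3) ip11 2), (sel (ones 3) ip11 3)] = true := by decide +kernel

theorem tl11 : Nat.beq (T.let 11).tt 0 = true := by decide +kernel

theorem rot12_1 : T.rot 12 [5] (sel (ones 3) ip12 1) = true := by decide +kernel

theorem rot12_1r : band (Rule.ok (2 * 0) EX RL ⟨12 :: [5], [], 27, false⟩) (lall (memL L) [5]) = true := by decide +kernel

theorem rot12_2 : T.rot 12 [14, 5, 7] (sel (ones 3) ip12 2) = true := by decide +kernel

theorem rot12_2r : band (Rule.ok (2 * 0) EX RL ⟨12 :: [14, 5, 7], [13, 9], 25, true⟩) (lall (memL L) [14, 5, 7]) = true := by decide +kernel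

theorem rot12_3 : T.rot 12 [7, 5, 14] (sel (ones 3) ip12 3) = true := by decide +kernel

theorem rot12_3r : band (Rule.ok (2 * 0) EX RL ⟨12 :: [7, 5, 14], [9], 25, false⟩) (lall (memL L) [7, 5, 14]) = true := by decide +kernel

theorem cov12 : T.cover 12 [(sel (ones 3) ip12 1), (sel (ones 3) ip12 2), (sel (ones 3) ip12 3)] = true := by decide +kernel

theorem tl12 : Nat.beq (T.let 12).tt 0 = true := by decide +kernel

theorem rot13_1 : T.rot 13 [6] (sel (ones 3) ip13 1) = true := by decide +kernel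

theorem rot13_1r : band (Rule.ok (2 * 0) EX RL ⟨13 :: [6], [], 27, false⟩) (lall (memL L) [6]) = true := by decide +kernel

theorem rot13_2 : T.rot 13 [14, 6, 6, 7] (sel (ones 3) ip13 2) = true := by decide +kernel

theorem rot13_2r : band (Rule.ok (2 * 0) EX RL ⟨13 :: [14, 6, 6, 7], [13], 26, false⟩) (lall (memL L) [14, 6, 6, 7]) = true := by decide +kernel

theorem cov13 : T.cover 13 [(sel (ones 3) ip13 1), (sel (ones 3) ip13 2)] = true := by decide +kernel

theorem tl13 : Nat.beq (T.let 13).tt 0 = true := by decide +kernel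

theorem rot14_1 : T.rot 14 [7] (sel (ones 3) ip14 1) = true := by decide +kernel

theorem rot14_1r : band (Rule.ok (2 * 0) EX RL ⟨14 :: [7], [], 27, false⟩) (lall (memL L) [7]) = true := by decide +kernel

theorem rot14_2 : T.rot 14 [14, 14] (sel (ones 3) ip14 2) = true := by decide +kernel

theorem rot14_2r : band (Rule.ok (2 * 0) EX RL ⟨14 :: [14, 14], [], 20, false⟩) (lall (memL L) [14, 14]) = true := by decide +kernel

theorem cov14 : T.cover 14 [(sel (ones 3) ip14 1), (sel (ones 3) ip14 2)] = true := by decide +kernel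

theorem tl14 : T.treeLt 2 14 = true := by decide +kernel

end Cfsg.Agent.Spor.Th3
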