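import Cfsg.Agent.Spor.Chk

set_option autoImplicit false
set_option maxRecDepth 100000000
set_option Elab.async false
noncomputable section

namespace Cfsg.Agent.Spor.Th3

def n0 : Net := Net.nil

def n1 : Net := Net.nil

def n2 : Net := Net.nil

def n3 : Net := Net.nil

def n4 : Net := Net.nil

def n5 : Net := Net.nil

def m6_0 : Nat := nat_lit 0x1
def m6_1 : Nat := nat_lit 0x1
def n6 : Net := Net.cons 2 m6_0 (Net.cons 1 m6_1 (Net.nil))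

def ip1 : List Nat := [0x4, 0x2]
def l1 : Let := ⟨0, false, 0x7, 0x0, [0x0, 0x6]⟩

def ip2 : List Nat := [0x4, 0x2]
def l2 : Let := ⟨1, false, 0x7, 0x0, [0x0, 0x6]⟩

def ip3 : List Nat := [0x4, 0x2]
def l3 : Let := ⟨2, false, 0x7, 0x0, [0x0, 0x6]⟩

def ip4 : List Nat := [0x4, 0x2]
def l4 : Let := ⟨3, false, 0x7, 0x0, [0x0, 0x6]⟩

def ip5 : List Nat := [0x4, 0x2]
def l5 : Let := ⟨4, false, 0x7, 0x0, [0x0, 0x6]⟩

def ip6 : List Nat := [0x6]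
def l6 : Let := ⟨5, false, 0x7, 0x0, [0x4, 0x6]⟩

def ip7 : List Nat := [0x4, 0x2]
def l7 : Let := ⟨6, false, 0x7, 0x2, [0x4, 0x2]⟩

def ip8 : List Nat := [0x5, 0x6]
def l8 : Let := ⟨0, true, 0x7, 0x0, [0x1, 0x6]⟩

def ip9 : List Nat := [0x5, 0x6]
def l9 : Let := ⟨1, true, 0x7, 0x0, [0x1, 0x6]⟩

def ip10 : List Nat := [0x5, 0x6]
def l10 : Let := ⟨2, true, 0x7, 0x0, [0x1, 0x6]⟩

def ip11 : List Nat := [0x5, 0x6]
def l11 : Let := ⟨3, true, 0x7, 0x0, [0x1, 0x6]⟩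

def ip12 : List Nat := [0x5, 0x6]
def l12 : Let := ⟨4, true, 0x7, 0x0, [0x1, 0x6]⟩

def ip13 : List Nat := [0x1, 0x6]
def l13 : Let := ⟨5, true, 0x7, 0x0, [0x5, 0x6]⟩

def ip14 : List Nat := [0x2, 0x4]
def l14 : Let := ⟨6, true, 0x7, 0x4, [0x2, 0x4]⟩

def NT : List Net := [n0, n1, n2, n3, n4, n5, n6]
def LT : List Let := [⟨0, false, 0, 0, []⟩, l1, l2, l3, l4, l5, l6, l7, l8, l9, l10, l11, l12, l13, l14]
def T : Tab := ⟨NT, LT⟩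
def EX : List (List Nat) := [[], [0], [2], [4], [6], [8], [10], [12], [1], [3], [5], [7], [9], [11], [13]]
def RL : List (List Nat) := [[0, 0], [2, 2], [4, 4], [6, 6], [8, 8], [0, 2, 0, 2, 0, 2], [0, 8, 0, 8], [2, 4, 2, 4, 2, 4], [2, 6, 2, 6], [2, 8, 2, 8], [0, 7, 5, 7, 5, 7, 5, 7, 5], [4, 8, 4, 8], [6, 8, 6, 8, 6, 8], [2, 4, 6, 8, 2, 4, 6, 8, 2, 4, 6, 8, 2, 4, 6, 8, 2, 4, 6, 8, 2, 4, 6, 8, 2, 4, 6, 8, 2, 4, 6, 8], [10, 10, 10, 10, 10, 10, 10], [11, 1, 10, 0], [11, 3, 10, 2], [11, 5, 10, 4], [10, 6, 10, 6], [9, 11, 8, 11, 11, 9, 10, 10, 10], [12, 12, 12], [13, 1, 12, 0], [13, 3, 12, 2], [13, 5, 12, 4], [13, 7, 12, 6], [13, 9, 12, 8], [13, 10, 12, 11, 11]]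
def XL : List (List Nat) := []
def BW : List (List Nat) := [[0], [2], [4], [6], [8], [10]]
def IV : Nat := 0x70605040302010e0d0c0b0a090800
def L : List Nat := [1, 2, 3, 4, 5, 6, 7, 8, 9, 10, 11, 12, 13, 14]
def gs : List Nat := [1, 2, 3, 4, 5, 6, 7]
def base : List Nat := [1, 2, 3, 4, 5, 6]

end Cfsg.Agent.Spor.Th3
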